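import Mathlib
import Cfsg.Agent.Lib.Perm.MinNormal
import Cfsg.Agent.Lib.Char.BurnsidePQ

/-!
First reduction of the O'Nan–Scott theorem (helper74).  `Fac N T`: `N` is a non-abelian minimal
normal subgroup of `G` and `T` one of its simple direct factors.  For a maximal subgroup `H` not
containing `N`: product type (`PType`) or subdirect type (`SType`).
-/

set_option autoImplicit false

namespace H74.ONS

open Subgroup
open scoped Pointwise

variable {G : Type*} [Group G]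

/-- The conjugate `g T g⁻¹`. -/
def cj (g : G) (T : Subgroup G) : Subgroup G := MulAut.conj g • T

theorem mem_cj {g x : G} {T : Subgroup G} : x ∈ cj g T ↔ g⁻¹ * x * g ∈ T := by
  rw [cj, Subgroup.mem_pointwise_smul_iff_inv_smul_mem, MulAut.smul_def, MulAut.conj_inv_apply]

theorem conj_mem_cj (g : G) {x : G} {T : Subgroup G} (hx : x ∈ T) : g * x * g⁻¹ ∈ cj g T := by
  rw [mem_cj]; simpa [mul_assoc] using hx

theorem cj_mul (g h : G) (T : Subgroup G) : cj (g * h) T = cj g (cj h T) := by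
  ext x; simp [mem_cj, mul_assoc]

@[simp] theorem cj_one (T : Subgroup G) : cj 1 T = T := by
  ext x; simp [mem_cj]

theorem cj_inv_cj (g : G) (T : Subgroup G) : cj g⁻¹ (cj g T) = T := by
  rw [← cj_mul]; simp

theorem cj_cj_inv (g : G) (T : Subgroup G) : cj g (cj g⁻¹ T) = T := by
  rw [← cj_mul]; simp

theorem cj_injective (g : G) : Function.Injective (cj g : Subgroup G → Subgroup G) :=
  Function.LeftInverse.injective (cj_inv_cj g)

theorem cj_eq_iff_mem_normalizer {g : G} {T : Subgroup G} :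
    cj g T = T ↔ g ∈ normalizer (T : Set G) := by
  rw [mem_normalizer_iff'']
  constructor
  · intro h x
    rw [← mem_cj, h]
  · intro h
    ext x
    rw [mem_cj, ← h]

/-- `N` is a non-abelian minimal normal subgroup and `T` a minimal normal subgroup of `N`. -/
structure Fac (N T : Subgroup G) : Prop where
  normal : N.Normal
  min : ∀ M : Subgroup G, M.Normal → M ≤ N → M = ⊥ ∨ M = N
  nonab : ¬ IsMulCommutative N
  le : T ≤ N
  ne_bot : T ≠ ⊥
  conj : ∀ n ∈ N, ∀ t ∈ T, n * t * n⁻¹ ∈ T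
  minT : ∀ S ≤ T, (∀ n ∈ N, ∀ s ∈ S, n * s * n⁻¹ ∈ S) → S = ⊥ ∨ S = T

theorem exists_fac [Finite G] {N : Subgroup G} (hN : N.Normal)
    (hmin : ∀ M : Subgroup G, M.Normal → M ≤ N → M = ⊥ ∨ M = N) (hab : ¬ IsMulCommutative N) :
    ∃ T, Fac N T := by
  have hne : N ≠ ⊥ := by rintro rfl; exact hab inferInstance
  obtain ⟨T, ⟨h1, h2, h3⟩, hT⟩ := exists_minimal_of_wellFoundedLT
    (fun T : Subgroup G => T ≤ N ∧ T ≠ ⊥ ∧ ∀ n ∈ N, ∀ t ∈ T, n * t * n⁻¹ ∈ T)
    ⟨N, le_rfl, hne, fun n _ t ht => hN.conj_mem t ht n⟩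
  refine ⟨T, hN, hmin, hab, h1, h2, h3, fun S hS h => ?_⟩
  by_cases hb : S = ⊥
  · exact Or.inl hb
  · exact Or.inr (le_antisymm hS (hT ⟨hS.trans h1, hb, h⟩ hS))

namespace Fac

variable {N T T' : Subgroup G}

theorem N_ne_bot (h : Fac N T) : N ≠ ⊥ := fun e => h.ne_bot (eq_bot_iff.mpr (e ▸ h.le))

theorem conj' (h : Fac N T) {n t : G} (hn : n ∈ N) (ht : t ∈ T) : n⁻¹ * t * n ∈ T := by
  simpa using h.conj n⁻¹ (N.inv_mem hn) t ht

theorem cj_eq (h : Fac N T) {n : G} (hn : n ∈ N) : cj n T = T := by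
  ext x
  rw [mem_cj]
  exact ⟨fun hx => by simpa [mul_assoc] using h.conj n hn _ hx, h.conj' hn⟩

theorem cj (h : Fac N T) (g : G) : Fac N (cj g T) where
  normal := h.normal
  min := h.min
  nonab := h.nonab
  le := fun x hx => by
    have := h.normal.conj_mem _ (h.le (mem_cj.mp hx)) g
    simpa [mul_assoc] using this
  ne_bot := by
    intro e
    apply h.ne_bot
    rw [eq_bot_iff]
    intro x hx
    have := conj_mem_cj g hx
    rw [e, mem_bot] at this
    simpa using this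
  conj := by
    intro n hn t ht
    rw [mem_cj] at ht ⊢
    have := h.conj _ (h.normal.conj_mem' n hn g) _ ht
    simpa [mul_assoc] using this
  minT := by
    intro S hS hS'
    rcases h.minT (ONS.cj g⁻¹ S) (fun x hx => by
        have := mem_cj.mp (hS (mem_cj.mp hx))
        simpa [mul_assoc] using this) (fun n hn s hs => by
        rw [mem_cj] at hs ⊢
        have := hS' _ (h.normal.conj_mem n hn g) _ hs
        simpa [mul_assoc] using this) with h1 | h1
    · left
      rw [eq_bot_iff]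
      intro x hx
      have := conj_mem_cj g⁻¹ hx
      rw [h1, mem_bot] at this
      exact mem_bot.mpr (conj_eq_one_iff.mp this)
    · right
      rw [← h1, cj_cj_inv]

theorem inf_eq_bot (h : Fac N T) (h' : Fac N T') (hne : T ≠ T') : T ⊓ T' = ⊥ := by
  have key : ∀ n ∈ N, ∀ s ∈ T ⊓ T', n * s * n⁻¹ ∈ T ⊓ T' := fun n hn s hs =>
    ⟨h.conj n hn s hs.1, h'.conj n hn s hs.2⟩
  rcases h.minT _ inf_le_left key with h1 | h1
  · exact h1
  rcases h'.minT _ inf_le_right key with h2 | h2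
  · exact h2
  exact absurd (h1.symm.trans h2) hne

theorem commute (h : Fac N T) (h' : Fac N T') (hne : T ≠ T') {t t' : G} (ht : t ∈ T)
    (ht' : t' ∈ T') : t * t' = t' * t := by
  have : t * t' * t⁻¹ * t'⁻¹ ∈ T ⊓ T' := by
    refine ⟨?_, T'.mul_mem (h'.conj t (h.le ht) t' ht') (T'.inv_mem ht')⟩
    have := T.mul_mem ht (h.conj t' (h'.le ht') _ (T.inv_mem ht))
    simpa [mul_assoc] using this
  rw [h.inf_eq_bot h' hne, mem_bot] at this
  calc t * t' = (t * t' * t⁻¹ * t'⁻¹) * (t' * t) := by group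
    _ = _ := by rw [this, one_mul]

theorem le_centralizer (h : Fac N T) (h' : Fac N T') (hne : T ≠ T') :
    T' ≤ centralizer (T : Set G) := fun _ ht' _ ht => h.commute h' hne ht ht'

/-- A subgroup containing all conjugates of `T` contains `N`. -/
theorem le_of_forall_cj (h : Fac N T) {Y : Subgroup G} (hY : ∀ g, ONS.cj g T ≤ Y) : N ≤ Y := by
  have hn : (⨆ g, ONS.cj g T).Normal := by
    refine ⟨fun x hx g => ?_⟩
    induction hx using Subgroup.iSup_induction' with
    | hp k x hx =>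
      refine mem_iSup_of_mem (g * k) ?_
      rw [cj_mul]; exact conj_mem_cj g hx
    | h1 => simp
    | hmul x y _ _ hx hy =>
      have := Subgroup.mul_mem _ hx hy
      simpa [mul_assoc] using this
  rcases h.min _ hn (iSup_le fun g => (h.cj g).le) with h1 | h1
  · exact absurd (eq_bot_iff.mpr (h1 ▸ (by simpa using le_iSup (fun g => ONS.cj g T) 1))) h.ne_bot
  · rw [← h1]; exact iSup_le hY

/-- The subgroup `R · C_N(T)` for `R ≤ T`. -/
def mulC (h : Fac N T) (R : Subgroup G) (hR : R ≤ T) : Subgroup G where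
  carrier := {n | ∃ t ∈ R, ∃ c ∈ N, c ∈ centralizer (T : Set G) ∧ n = t * c}
  one_mem' := ⟨1, R.one_mem, 1, N.one_mem, one_mem _, by simp⟩
  mul_mem' := by
    rintro _ _ ⟨t, ht, c, hc, hc', rfl⟩ ⟨s, hs, d, hd, hd', rfl⟩
    refine ⟨t * s, R.mul_mem ht hs, c * d, N.mul_mem hc hd, mul_mem hc' hd', ?_⟩
    have := hc' s (hR hs)
    calc t * c * (s * d) = t * (c * s) * d := by group
      _ = _ := by rw [← this]; group
  inv_mem' := by
    rintro _ ⟨t, ht, c, hc, hc', rfl⟩
    refine ⟨t⁻¹, R.inv_mem ht, c⁻¹, N.inv_mem hc, inv_mem hc', ?_⟩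
    rw [← mul_inv_rev, hc' t (hR ht)]

theorem decomp (h : Fac N T) {n : G} (hn : n ∈ N) :
    ∃ t ∈ T, ∃ c ∈ N, c ∈ centralizer (T : Set G) ∧ n = t * c := by
  refine h.le_of_forall_cj (Y := h.mulC T le_rfl) (fun g x hx => ?_) hn
  by_cases e : T = ONS.cj g T
  · exact ⟨x, e ▸ hx, 1, N.one_mem, one_mem _, by simp⟩
  · exact ⟨1, T.one_mem, x, (h.cj g).le hx, h.le_centralizer (h.cj g) e hx, by simp⟩

theorem eq_one_of_centralizer_N (h : Fac N T) {x : G} (hx : x ∈ N)
    (hc : x ∈ centralizer (N : Set G)) : x = 1 := by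
  haveI := h.normal
  rcases h.min (N ⊓ centralizer (N : Set G)) inferInstance inf_le_left with h1 | h1
  · exact mem_bot.mp (h1 ▸ (⟨hx, hc⟩ : x ∈ N ⊓ centralizer (N : Set G)))
  · exfalso
    refine h.nonab ⟨⟨fun a b => Subtype.ext ?_⟩⟩
    have : (b : G) ∈ N ⊓ centralizer (N : Set G) := h1.symm ▸ b.2
    exact this.2 a a.2

theorem eq_one_of_centralizer (h : Fac N T) {t : G} (ht : t ∈ T)
    (hc : t ∈ centralizer (T : Set G)) : t = 1 := by
  refine h.eq_one_of_centralizer_N (h.le ht) fun n hn => ?_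
  obtain ⟨s, hs, c, -, hc', rfl⟩ := h.decomp hn
  rw [mul_assoc, ← hc' t ht, ← mul_assoc, hc s hs, mul_assoc]

theorem eq_bot_or_eq (h : Fac N T) {S : Subgroup G} (hS : S ≤ T)
    (hn : ∀ t ∈ T, ∀ s ∈ S, t * s * t⁻¹ ∈ S) : S = ⊥ ∨ S = T := by
  refine h.minT S hS fun n hn' s hs => ?_
  obtain ⟨t, ht, c, -, hc, rfl⟩ := h.decomp hn'
  have : t * c * s * (t * c)⁻¹ = t * s * t⁻¹ := by
    rw [mul_assoc t c s, ← hc s (hS hs)]; group
  rw [this]; exact hn t ht s hs

theorem not_comm (h : Fac N T) : ¬ IsMulCommutative T := by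
  intro hc
  apply h.ne_bot
  rw [eq_bot_iff]
  intro t ht
  exact h.eq_one_of_centralizer ht fun s hs => congrArg Subtype.val (hc.is_comm.comm ⟨s, hs⟩ ⟨t, ht⟩)

theorem isSimpleGroup (h : Fac N T) : IsSimpleGroup T := by
  haveI : Nontrivial T := (nontrivial_iff_ne_bot T).mpr h.ne_bot
  refine ⟨fun S hS => ?_⟩
  rcases h.eq_bot_or_eq (S := S.map T.subtype) (map_subtype_le S) (by
      rintro t ht _ ⟨s, hs, rfl⟩
      exact ⟨_, hS.conj_mem s hs ⟨t, ht⟩, rfl⟩) with h1 | h1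
  · exact Or.inl ((map_eq_bot_iff_of_injective S T.subtype_injective).mp h1)
  · right
    rw [eq_top_iff]
    intro x _
    have : (x : G) ∈ S.map T.subtype := h1.symm ▸ x.2
    obtain ⟨s, hs, e⟩ := this
    rwa [← Subtype.ext e]

theorem not_isSolvable (h : Fac N T) : ¬ Group.IsSolvable T := by
  intro hs
  haveI := h.isSimpleGroup
  exact h.not_comm ⟨⟨IsSimpleGroup.comm_iff_isSolvable.mpr hs⟩⟩

/-- All simple factors are conjugate. -/
theorem exists_cj_eq (h : Fac N T) (h' : Fac N T') : ∃ g, ONS.cj g T = T' := by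
  by_contra hc
  push Not at hc
  apply h'.ne_bot
  rw [eq_bot_iff]
  intro t ht
  have : N ≤ centralizer (T' : Set G) :=
    h.le_of_forall_cj fun g => h'.le_centralizer (h.cj g) (hc g).symm
  exact h'.eq_one_of_centralizer ht (this (h'.le ht))

theorem exists_ne (h : Fac N T) (hne : T ≠ N) : ∃ g, ONS.cj g T ≠ T := by
  by_contra hc
  push Not at hc
  exact hne (le_antisymm h.le (h.le_of_forall_cj fun g => (hc g).le))

/-- Uniqueness of the `T`-component. -/
theorem comp_unique (h : Fac N T) {t s c d : G} (ht : t ∈ T) (hs : s ∈ T)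
    (hc : c ∈ centralizer (T : Set G)) (hd : d ∈ centralizer (T : Set G)) (e : t * c = s * d) :
    t = s := by
  have : s⁻¹ * t = d * c⁻¹ := by
    calc s⁻¹ * t = s⁻¹ * (t * c) * c⁻¹ := by group
      _ = _ := by rw [e]; group
  have h1 := h.eq_one_of_centralizer (T.mul_mem (T.inv_mem hs) ht)
    (this ▸ mul_mem hd (inv_mem hc))
  exact (inv_mul_eq_one.mp h1).symm

theorem conj_mem_centralizer (h : Fac N T) {n c : G} (hn : n ∈ N)
    (hc : c ∈ centralizer (T : Set G)) : n⁻¹ * c * n ∈ centralizer (T : Set G) := by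
  intro t ht
  have := hc _ (h.conj n hn t ht)
  calc t * (n⁻¹ * c * n) = n⁻¹ * (n * t * n⁻¹ * c) * n := by group
    _ = _ := by rw [this]; group

/-- The order of a simple factor has three different prime divisors. -/
theorem exists_three_primes [Finite G] (h : Fac N T) :
    ∃ a ∈ T, ∃ b ∈ T, ∃ c ∈ T, (orderOf a).Prime ∧ (orderOf b).Prime ∧ (orderOf c).Prime ∧
      orderOf a ≠ orderOf b ∧ orderOf a ≠ orderOf c ∧ orderOf b ≠ orderOf c := by
  have h3 : 2 < (Nat.card T).primeFactors.card := by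
    by_contra hc
    apply h.not_isSolvable
    have hsub : ∃ p q : ℕ, p.Prime ∧ q.Prime ∧ (Nat.card T).primeFactors ⊆ {p, q} := by
      rcases Nat.le_succ_iff.mp (not_lt.mp hc) with h1 | h1
      · rcases Nat.le_succ_iff.mp h1 with h2 | h2
        · exact ⟨2, 2, Nat.prime_two, Nat.prime_two, by
            rw [Finset.card_eq_zero.mp (Nat.le_zero.mp h2)]; simp⟩
        · obtain ⟨p, hp⟩ := Finset.card_eq_one.mp h2
          have : p.Prime := Nat.prime_of_mem_primeFactors (hp ▸ Finset.mem_singleton_self p)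
          exact ⟨p, p, this, this, by rw [hp]; simp⟩
      · obtain ⟨p, q, -, hp⟩ := Finset.card_eq_two.mp h1
        exact ⟨p, q, Nat.prime_of_mem_primeFactors (by rw [hp]; simp),
          Nat.prime_of_mem_primeFactors (by rw [hp]; simp), hp.le⟩
    obtain ⟨p, q, hp, hq, hs⟩ := hsub
    refine H8.isSolvable_of_card_dvd (a := Nat.card T) (b := Nat.card T) hp hq ?_
    have hpos : Nat.card T ≠ 0 := Nat.card_pos.ne'
    rw [← Nat.factorization_prime_le_iff_dvd hpos
      (mul_ne_zero (pow_ne_zero _ hp.ne_zero) (pow_ne_zero _ hq.ne_zero))]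
    intro r hr
    by_cases hrd : r ∈ (Nat.card T).primeFactors
    · rw [Nat.factorization_mul (pow_ne_zero _ hp.ne_zero) (pow_ne_zero _ hq.ne_zero),
        hp.factorization_pow, hq.factorization_pow]
      have := Nat.factorization_lt r hpos
      have h2 := hs hrd
      simp only [Finset.mem_insert, Finset.mem_singleton] at h2
      rcases h2 with rfl | rfl
      · simp only [Finsupp.coe_add, Pi.add_apply, Finsupp.single_eq_same]; omega
      · simp only [Finsupp.coe_add, Pi.add_apply, Finsupp.single_eq_same]; omega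
    · have : (Nat.card T).factorization r = 0 := by
        rwa [← Nat.support_factorization, Finsupp.notMem_support_iff] at hrd
      omega
  obtain ⟨p, hp, q, hq, r, hr, h1, h2, h3⟩ := Finset.two_lt_card.mp h3
  have key : ∀ p ∈ (Nat.card T).primeFactors, ∃ a ∈ T, orderOf a = p ∧ p.Prime := by
    intro p hp
    haveI := Fact.mk (Nat.prime_of_mem_primeFactors hp)
    obtain ⟨x, hx⟩ := exists_prime_orderOf_dvd_card' (G := T) p (Nat.dvd_of_mem_primeFactors hp)
    exact ⟨x, x.2, by rw [orderOf_coe, hx], Fact.out⟩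
  obtain ⟨a, ha, rfl, ha'⟩ := key p hp
  obtain ⟨b, hb, rfl, hb'⟩ := key q hq
  obtain ⟨c, hc, rfl, hc'⟩ := key r hr
  exact ⟨a, ha, b, hb, c, hc, ha', hb', hc', h1, h2, h3⟩

end Fac

/-- Product type: `H ∩ N` is the product of its intersections with the factors. -/
def PType (N T H : Subgroup G) : Prop :=
  ∀ t ∈ T, ∀ c ∈ N, c ∈ centralizer (T : Set G) → t * c ∈ H → t ∈ H

/-- Subdirect type: `H ∩ N` projects onto `T`. -/
def SType (N T H : Subgroup G) : Prop :=
  ∀ t ∈ T, ∃ c ∈ N, c ∈ centralizer (T : Set G) ∧ t * c ∈ H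

theorem exists_mul_of_sup_eq_top {N H : Subgroup G} (hN : N.Normal) (hs : N ⊔ H = ⊤) (g : G) :
    ∃ n ∈ N, ∃ h ∈ H, g = n * h := by
  have hg : g ∈ ((N ⊔ H : Subgroup G) : Set G) := by rw [hs]; trivial
  rw [Subgroup.normal_mul] at hg
  obtain ⟨n, hn, s, hs, rfl⟩ := hg
  exact ⟨n, hn, s, hs, rfl⟩

theorem sup_eq_top_of_isCoatom {N H : Subgroup G} (hH : IsCoatom H) (hle : ¬ N ≤ H) : N ⊔ H = ⊤ :=
  hH.2 _ (lt_of_le_of_ne le_sup_right fun e => hle (e ▸ le_sup_left))

theorem mem_centralizer_cj {g c : G} {T : Subgroup G} :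
    c ∈ centralizer (cj g T : Set G) ↔ g⁻¹ * c * g ∈ centralizer (T : Set G) := by
  constructor
  · intro h t ht
    have := h _ (conj_mem_cj g ht)
    calc t * (g⁻¹ * c * g) = g⁻¹ * (g * t * g⁻¹ * c) * g := by group
      _ = _ := by rw [this]; group
  · intro h t ht
    have := h _ (mem_cj.mp ht)
    calc t * c = g * (g⁻¹ * t * g * (g⁻¹ * c * g)) * g⁻¹ := by group
      _ = _ := by rw [this]; group

theorem PType.cj {N T H : Subgroup G} (hN : N.Normal) (hP : PType N T H) (g : G) :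
    PType N (cj g T) (cj g H) := by
  intro t ht c hc hc' h
  rw [mem_cj] at ht h ⊢
  refine hP _ ht _ (hN.conj_mem' c hc g) (mem_centralizer_cj.mp hc') ?_
  simpa [mul_assoc] using h

theorem SType.cj {N T H : Subgroup G} (hN : N.Normal) (hS : SType N T H) (g : G) :
    SType N (cj g T) (cj g H) := by
  intro t ht
  obtain ⟨c, hc, hc', h⟩ := hS _ (mem_cj.mp ht)
  refine ⟨g * c * g⁻¹, hN.conj_mem c hc g, mem_centralizer_cj.mpr (by simpa [mul_assoc] using hc'),
    mem_cj.mpr ?_⟩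
  simpa [mul_assoc] using h

theorem cj_eq_of_mem {H : Subgroup G} {h : G} (hh : h ∈ H) : cj h H = H :=
  cj_eq_iff_mem_normalizer.mpr (le_normalizer hh)

namespace Fac

variable {N T T' H : Subgroup G}

theorem exists_cj_eq_of_sup (h : Fac N T) (h' : Fac N T') (hs : N ⊔ H = ⊤) :
    ∃ k ∈ H, ONS.cj k T = T' := by
  obtain ⟨g, rfl⟩ := h.exists_cj_eq h'
  obtain ⟨n, hn, k, hk, rfl⟩ := exists_mul_of_sup_eq_top h.normal hs g
  exact ⟨k, hk, by rw [cj_mul, (h.cj k).cj_eq hn]⟩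

theorem pType_of_pType (h : Fac N T) (h' : Fac N T') (hs : N ⊔ H = ⊤) (hP : PType N T H) :
    PType N T' H := by
  obtain ⟨k, hk, rfl⟩ := h.exists_cj_eq_of_sup h' hs
  simpa [cj_eq_of_mem hk] using hP.cj h.normal k

theorem sType_of_sType (h : Fac N T) (h' : Fac N T') (hs : N ⊔ H = ⊤) (hP : SType N T H) :
    SType N T' H := by
  obtain ⟨k, hk, rfl⟩ := h.exists_cj_eq_of_sup h' hs
  simpa [cj_eq_of_mem hk] using hP.cj h.normal k

theorem not_le (h : Fac N T) (hs : N ⊔ H = ⊤) (hle : ¬ N ≤ H) : ¬ T ≤ H := by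
  intro hT
  refine hle (h.le_of_forall_cj fun g => ?_)
  obtain ⟨k, hk, e⟩ := h.exists_cj_eq_of_sup (h.cj g) hs
  rw [← e]
  intro x hx
  have := H.mul_mem (H.mul_mem hk (hT (mem_cj.mp hx))) (H.inv_mem hk)
  simpa [mul_assoc] using this

theorem inf_eq_bot_of_sType (h : Fac N T) (hs : N ⊔ H = ⊤) (hle : ¬ N ≤ H) (hS : SType N T H) :
    T ⊓ H = ⊥ := by
  rcases h.eq_bot_or_eq (S := T ⊓ H) inf_le_left (by
      intro t ht s hs
      refine ⟨h.conj t (h.le ht) s hs.1, ?_⟩
      obtain ⟨c, -, hc, hH⟩ := hS t ht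
      have : t * s * t⁻¹ = (t * c) * s * (t * c)⁻¹ := by
        rw [mul_assoc t c s, ← hc s hs.1]; group
      rw [this]
      exact H.mul_mem (H.mul_mem hH hs.2) (H.inv_mem hH)) with h1 | h1
  · exact h1
  · exact absurd (h1 ▸ inf_le_right) (h.not_le hs hle)

theorem ne_of_sType (h : Fac N T) (hle : ¬ N ≤ H) (hS : SType N T H) : T ≠ N := by
  rintro rfl
  refine hle fun t ht => ?_
  obtain ⟨c, hc, hc', hH⟩ := hS t ht
  rwa [h.eq_one_of_centralizer hc hc', mul_one] at hH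

/-- An `H`-invariant subgroup of `N` lies in the maximal subgroup `H` or supplements `H ∩ N`. -/
theorem _root_.H74.ONS.invariant_dichotomy {X : Subgroup G} (hH : IsCoatom H) (hX : X ≤ N)
    (hinv : ∀ k ∈ H, ∀ x ∈ X, k * x * k⁻¹ ∈ X) :
    X ≤ H ∨ ∀ n ∈ N, ∃ x ∈ X, ∃ d ∈ H, d ∈ N ∧ n = x * d := by
  by_cases hle : X ≤ H
  · exact Or.inl hle
  right
  let Y : Subgroup G :=
    { carrier := {g | ∃ x ∈ X, ∃ d ∈ H, g = x * d}
      one_mem' := ⟨1, X.one_mem, 1, H.one_mem, by simp⟩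
      mul_mem' := by
        rintro _ _ ⟨x, hx, d, hd, rfl⟩ ⟨y, hy, e, he, rfl⟩
        exact ⟨x * (d * y * d⁻¹), X.mul_mem hx (hinv d hd y hy), d * e, H.mul_mem hd he, by group⟩
      inv_mem' := by
        rintro _ ⟨x, hx, d, hd, rfl⟩
        exact ⟨d⁻¹ * x⁻¹ * d⁻¹⁻¹, hinv _ (H.inv_mem hd) _ (X.inv_mem hx), d⁻¹, H.inv_mem hd,
          by group⟩ }
  have hY : Y = ⊤ := by
    refine hH.2 Y (lt_of_le_of_ne (fun d hd => ⟨1, X.one_mem, d, hd, by simp⟩) fun e => hle ?_)
    rw [e]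
    exact fun x hx => ⟨x, hx, 1, H.one_mem, by simp⟩
  intro n hn
  obtain ⟨x, hx, d, hd, rfl⟩ : n ∈ Y := hY ▸ mem_top n
  exact ⟨x, hx, d, hd, by simpa using N.mul_mem (N.inv_mem (hX hx)) hn, rfl⟩

/-- The dichotomy of the O'Nan–Scott theorem. -/
theorem pType_or_sType (h : Fac N T) (hH : IsCoatom H) : PType N T H ∨ SType N T H := by
  let R : Subgroup G :=
    { carrier := {t | t ∈ T ∧ ∃ c ∈ N, c ∈ centralizer (T : Set G) ∧ t * c ∈ H}
      one_mem' := ⟨T.one_mem, 1, N.one_mem, one_mem _, by simp⟩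
      mul_mem' := by
        rintro t s ⟨ht, c, hc, hc', hH⟩ ⟨hs, d, hd, hd', hH'⟩
        refine ⟨T.mul_mem ht hs, c * d, N.mul_mem hc hd, mul_mem hc' hd', ?_⟩
        have : t * s * (c * d) = t * c * (s * d) := by
          rw [mul_assoc t c, ← mul_assoc c, ← hc' s hs]; group
        rw [this]; exact H.mul_mem hH hH'
      inv_mem' := by
        rintro t ⟨ht, c, hc, hc', hH⟩
        refine ⟨T.inv_mem ht, c⁻¹, N.inv_mem hc, inv_mem hc', ?_⟩
        rw [← mul_inv_rev, ← hc' t ht]; exact H.inv_mem hH }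
  have hRT : R ≤ T := fun t ht => ht.1
  have hRc : ∀ k ∈ H, ONS.cj k T = T → ONS.cj k R ≤ R := by
    intro k hk e x hx
    obtain ⟨h1, c, hc, hc', hH⟩ := mem_cj.mp hx
    refine ⟨e ▸ mem_cj.mpr h1, k * c * k⁻¹, h.normal.conj_mem c hc k, ?_, ?_⟩
    · rw [← e, mem_centralizer_cj]; simpa [mul_assoc] using hc'
    · have := H.mul_mem (H.mul_mem hk hH) (H.inv_mem hk)
      simpa [mul_assoc] using this
  let X : Subgroup G := ⨆ k : H, ONS.cj (k : G) R
  have hXN : X ≤ N := iSup_le fun k x hx => (h.cj k).le (mem_cj.mpr (hRT (mem_cj.mp hx)))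
  have hinv : ∀ k ∈ H, ∀ x ∈ X, k * x * k⁻¹ ∈ X := by
    intro k hk x hx
    induction hx using Subgroup.iSup_induction' with
    | hp l x hx =>
      refine mem_iSup_of_mem (⟨k, hk⟩ * l) ?_
      rw [coe_mul, cj_mul]; exact conj_mem_cj k hx
    | h1 => simp
    | hmul x y _ _ hx hy =>
      have := Subgroup.mul_mem _ hx hy
      simpa [mul_assoc] using this
  rcases invariant_dichotomy hH hXN hinv with h1 | h1
  · left
    intro t ht c hc hc' hH
    apply h1
    exact mem_iSup_of_mem (1 : H) (by rw [coe_one, cj_one]; exact ⟨ht, c, hc, hc', hH⟩)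
  · right
    have hXY : X ≤ h.mulC R hRT := by
      refine iSup_le fun k x hx => ?_
      by_cases e : T = ONS.cj (k : G) T
      · exact ⟨x, hRc k k.2 e.symm hx, 1, N.one_mem, one_mem _, by simp⟩
      · have hx' : x ∈ ONS.cj (k : G) T := mem_cj.mpr (hRT (mem_cj.mp hx))
        exact ⟨1, R.one_mem, x, (h.cj k).le hx', h.le_centralizer (h.cj k) e hx', by simp⟩
    intro t ht
    obtain ⟨x, hx, d, hd, hdN, e⟩ := h1 t (h.le ht)
    have hdY : d ∈ h.mulC R hRT := by
      obtain ⟨s, hs, c, hc, hc', rfl⟩ := h.decomp hdN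
      exact ⟨s, ⟨hs, c, hc, hc', hd⟩, c, hc, hc', rfl⟩
    obtain ⟨r, hr, c, -, hc', e'⟩ := mul_mem (hXY hx) hdY
    rw [← e] at e'
    have : t = r := h.comp_unique ht (hRT hr) (one_mem _) hc' (by simpa using e')
    rw [this]; exact hr.2

end Fac

end H74.ONS
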