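import Mathlib
import Cfsg.Agent.Lib.ONS.Basic
import Cfsg.Agent.Lib.Perm75.Prim
import Cfsg.Agent.Lib.Perm.Basic
import Cfsg.Agent.Lib.FGS.ClassSize

/-!
O'Nan–Scott reduction for primitive groups; derangements (helper74).
-/

set_option autoImplicit false

namespace H74.ONS

open Subgroup MulAction

variable {G Ω : Type*} [Group G] [MulAction G Ω]

theorem stabilizer_smul (g : G) (a : Ω) : stabilizer G (g • a) = cj g (stabilizer G a) := by
  ext x; rw [mem_cj, H75.stabilizer_smul_mem]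

theorem nontrivial_of_isPretransitive [IsPretransitive G Ω] [Nontrivial Ω] : Nontrivial G := by
  obtain ⟨a, b, hab⟩ := exists_pair_ne Ω
  obtain ⟨g, rfl⟩ := exists_smul_eq G a b
  exact ⟨g, 1, fun e => hab (by rw [e, one_smul])⟩

theorem not_le_stabilizer [FaithfulSMul G Ω] (h : IsPretransitive G Ω) {N : Subgroup G}
    (hN : N.Normal) (hne : N ≠ ⊥) (a : Ω) : ¬ N ≤ stabilizer G a := fun hle =>
  hne (H75.eq_bot_of_normal_le_stabilizer h N hN a hle)

theorem sup_stabilizer_eq_top [FaithfulSMul G Ω] [Nontrivial Ω] (h : IsPreprimitive G Ω)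
    {N : Subgroup G} (hN : N.Normal) (hne : N ≠ ⊥) (a : Ω) : N ⊔ stabilizer G a = ⊤ :=
  sup_eq_top_of_isCoatom (H75.isCoatom_stabilizer h a) (not_le_stabilizer h.toIsPretransitive hN hne a)

/-- An element centralising a transitive subgroup and fixing a point is trivial. -/
theorem eq_one_of_centralizer_of_fix [FaithfulSMul G Ω] {M : Subgroup G} (hM : IsPretransitive M Ω)
    {c : G} (hc : c ∈ centralizer (M : Set G)) {a : Ω} (ha : c • a = a) : c = 1 :=
  FaithfulSMul.eq_of_smul_eq_smul (α := Ω) fun x => by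
    rw [one_smul]; exact H26.smul_eq_of_commute_of_fix M (fun m hm => hc m hm) ha x

/-- A primitive group is affine, almost simple, or has a simple factor which is not normal or
has a non-trivial centraliser. -/
theorem trichotomy [Finite G] [FaithfulSMul G Ω] [Nontrivial Ω] (h : IsPreprimitive G Ω) :
    (∃ N : Subgroup G, N.Normal ∧ N ≠ ⊥ ∧ IsMulCommutative N ∧
      (∀ M : Subgroup G, M.Normal → M ≤ N → M = ⊥ ∨ M = N) ∧ IsPretransitive N Ω ∧
      ∀ ω : Ω, stabilizer N ω = ⊥) ∨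
    (∃ T : Subgroup G, T.Normal ∧ IsSimpleGroup T ∧ ¬ IsMulCommutative T ∧
      centralizer (T : Set G) = ⊥) ∨
    ∃ N T : Subgroup G, Fac N T ∧ (T ≠ N ∨ centralizer (N : Set G) ≠ ⊥) := by
  haveI := h.toIsPretransitive
  haveI : Nontrivial G := nontrivial_of_isPretransitive (Ω := Ω)
  obtain ⟨N, hN, hne, -, hmin⟩ := H26.exists_minNormal_le (⊤ : Subgroup G) top_ne_bot
  by_cases hc : IsMulCommutative N
  · haveI := H75.normal_isPretransitive' h N hN hne
    exact Or.inl ⟨N, hN, hne, hc, hmin, inferInstance, H26.stabilizer_eq_bot_of_comm N hc⟩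
  obtain ⟨T, hT⟩ := exists_fac hN hmin hc
  by_cases h1 : T ≠ N ∨ centralizer (N : Set G) ≠ ⊥
  · exact Or.inr (Or.inr ⟨N, T, hT, h1⟩)
  · push Not at h1
    obtain ⟨rfl, h2⟩ := h1
    exact Or.inr (Or.inl ⟨T, hN, hT.isSimpleGroup, hc, h2⟩)

theorem semiregular_of_centralizer_ne_bot [FaithfulSMul G Ω] (h : IsPreprimitive G Ω)
    {N : Subgroup G} (hN : N.Normal) (hC : centralizer (N : Set G) ≠ ⊥) {n : G} (hn : n ∈ N)
    {a : Ω} (ha : n • a = a) : n = 1 :=
  eq_one_of_centralizer_of_fix (H75.normal_isPretransitive' h _ inferInstance hC)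
    (fun c hc => (hc n hn).symm) ha

namespace Fac

variable {N T T' : Subgroup G}

theorem derangements [Finite G] [FaithfulSMul G Ω] [Nontrivial Ω] (hp : IsPreprimitive G Ω)
    (h : Fac N T) (hor : T ≠ N ∨ centralizer (N : Set G) ≠ ⊥) :
    (∀ t ∈ T, t ≠ 1 → ∀ ω : Ω, t • ω ≠ ω) ∨
      ∃ T', Fac N T' ∧ T ≠ T' ∧ ∃ t ∈ T, ∀ c ∈ T', ∀ ω : Ω, (t * c) • ω ≠ ω := by
  by_cases h1 : ∀ t ∈ T, t ≠ 1 → ∀ ω : Ω, t • ω ≠ ω
  · exact Or.inl h1
  right
  push Not at h1
  obtain ⟨t₀, ht₀, ht₀1, β, hβ⟩ := h1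
  have hs := sup_stabilizer_eq_top hp h.normal h.N_ne_bot β
  have hle := not_le_stabilizer hp.toIsPretransitive h.normal h.N_ne_bot β
  have hP : PType N T (stabilizer G β) := by
    refine (h.pType_or_sType (H75.isCoatom_stabilizer hp β)).resolve_right fun hS => ht₀1 ?_
    exact mem_bot.mp (h.inf_eq_bot_of_sType hs hle hS ▸ (⟨ht₀, hβ⟩ : t₀ ∈ T ⊓ stabilizer G β))
  have hTN : T ≠ N := hor.resolve_right fun hC =>
    ht₀1 (semiregular_of_centralizer_ne_bot hp h.normal hC (h.le ht₀) hβ)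
  obtain ⟨g, hg⟩ := h.exists_ne hTN
  refine ⟨_, h.cj g, hg.symm, ?_⟩
  have h2 := mt (H80.le_of_forall_exists_conj_mem (H := stabilizer G β) (K := T)) (h.not_le hs hle)
  push Not at h2
  obtain ⟨t, ht, ht'⟩ := h2
  refine ⟨t, ht, fun c hc ω hω => ?_⟩
  obtain ⟨⟨n, hn⟩, rfl⟩ :=
    (H75.normal_isPretransitive' hp N h.normal h.N_ne_bot).exists_smul_eq β ω
  have h3 : t * c ∈ stabilizer G (n • β) := hω
  rw [H75.stabilizer_smul_mem] at h3
  have h4 := hP (n⁻¹ * t * n) (h.conj' hn ht) (n⁻¹ * c * n)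
    (h.normal.conj_mem' c ((h.cj g).le hc) n)
    (h.conj_mem_centralizer hn (h.le_centralizer (h.cj g) hg.symm hc))
    (by simpa [mul_assoc] using h3)
  obtain ⟨s, hs, d, -, hd, rfl⟩ := h.decomp hn
  refine ht' s⁻¹ (T.inv_mem hs) ?_
  have : (s * d)⁻¹ * t * (s * d) = s⁻¹ * t * s⁻¹⁻¹ := by
    have := hd _ (h.conj' (h.le hs) ht)
    calc (s * d)⁻¹ * t * (s * d) = d⁻¹ * (s⁻¹ * t * s * d) := by group
      _ = _ := by rw [this]; group
  rwa [this] at h4

theorem orderOf_eq_of_isConj (h : Fac N T) (h' : Fac N T') (hne : T ≠ T') {t c d : G}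
    (ht : t ∈ T) (hc : c ∈ T') (hd : d ∈ T') (hc1 : c ≠ 1) (e : IsConj (t * c) (t * d)) :
    orderOf c = orderOf d := by
  obtain ⟨g, hg⟩ := isConj_iff.mp e
  have hx := conj_mem_cj g ht
  have hy := conj_mem_cj g hc
  have hAB : ONS.cj g T' ≠ ONS.cj g T := fun e => hne (cj_injective g e).symm
  have hxB := (h'.cj g).le_centralizer (h.cj g) hAB hx
  have e1 : (g * c * g⁻¹) * (g * t * g⁻¹) = t * d := by
    rw [← hg, h.commute h' hne ht hc]; group
  have o1 : orderOf (g * c * g⁻¹) = orderOf c := (MulAut.conj g).orderOf_eq c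
  have o2 : orderOf (g * t * g⁻¹) = orderOf t := (MulAut.conj g).orderOf_eq t
  by_cases h1 : ONS.cj g T' = T'
  · rw [h1] at hy hxB
    rw [← o1, h'.comp_unique hy hd hxB (h'.le_centralizer h hne.symm ht)
      (e1.trans (h.commute h' hne ht hd))]
  by_cases h2 : ONS.cj g T' = T
  · rw [h2] at hy hxB
    have e2 := h.comp_unique hy ht hxB (h.le_centralizer h' hne hd) e1
    rw [e2, mul_right_inj] at e1
    rw [← o1, e2, ← o2, e1]
  · exfalso
    have := (h'.cj g).comp_unique hy (one_mem _) hxB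
      (mul_mem ((h'.cj g).le_centralizer h h2 ht) ((h'.cj g).le_centralizer h' h1 hd))
      (by rw [e1, one_mul])
    exact hc1 (conj_eq_one_iff.mp this)

theorem orderOf_dvd_mul (h : Fac N T) (h' : Fac N T') (hne : T ≠ T') {t c : G}
    (ht : t ∈ T) (hc : c ∈ T') : orderOf c ∣ orderOf (t * c) := by
  have hcomm : Commute c t := (h.commute h' hne ht hc).symm
  rw [orderOf_dvd_iff_pow_eq_one]
  refine h'.comp_unique (T'.pow_mem hc _) (one_mem _)
    (pow_mem (h'.le_centralizer h hne.symm ht) (orderOf (t * c))) (one_mem _) ?_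
  rw [← hcomm.mul_pow, hcomm.eq, pow_orderOf_eq_one, one_mul]

theorem three_derangements [Finite G] [FaithfulSMul G Ω] [Nontrivial Ω] (hp : IsPreprimitive G Ω)
    (h : Fac N T) (hor : T ≠ N ∨ centralizer (N : Set G) ≠ ⊥) :
    ∃ a b c : G, (∀ ω : Ω, a • ω ≠ ω) ∧ (∀ ω : Ω, b • ω ≠ ω) ∧ (∀ ω : Ω, c • ω ≠ ω) ∧
      ¬ IsConj a b ∧ ¬ IsConj a c ∧ ¬ IsConj b c := by
  have n1 : ∀ {x : G}, (orderOf x).Prime → x ≠ 1 := fun hx e => by
    rw [e, orderOf_one] at hx; exact Nat.not_prime_one hx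
  have oc : ∀ {x y : G}, IsConj x y → orderOf x = orderOf y := fun e => by
    obtain ⟨g, rfl⟩ := isConj_iff.mp e
    exact ((MulAut.conj g).orderOf_eq _).symm
  rcases h.derangements hp hor with h1 | ⟨T', h', hne, t, ht, h1⟩
  · obtain ⟨a, ha, b, hb, c, hc, pa, pb, pc, e1, e2, e3⟩ := h.exists_three_primes
    exact ⟨a, b, c, h1 a ha (n1 pa), h1 b hb (n1 pb), h1 c hc (n1 pc), mt oc e1, mt oc e2, mt oc e3⟩
  · obtain ⟨a, ha, b, hb, c, hc, pa, pb, pc, e1, e2, e3⟩ := h'.exists_three_primes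
    exact ⟨t * a, t * b, t * c, h1 a ha, h1 b hb, h1 c hc,
      mt (h.orderOf_eq_of_isConj h' hne ht ha hb (n1 pa)) e1,
      mt (h.orderOf_eq_of_isConj h' hne ht ha hc (n1 pa)) e2,
      mt (h.orderOf_eq_of_isConj h' hne ht hb hc (n1 pb)) e3⟩

/-- For every prime `p` some derangement has order divisible by a prime other than `p`. -/
theorem exists_derangement_prime_dvd [Finite G] [FaithfulSMul G Ω] [Nontrivial Ω]
    (hp : IsPreprimitive G Ω) (h : Fac N T) (hor : T ≠ N ∨ centralizer (N : Set G) ≠ ⊥) (p : ℕ) :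
    ∃ (g : G) (q : ℕ), q.Prime ∧ q ≠ p ∧ q ∣ orderOf g ∧ ∀ ω : Ω, g • ω ≠ ω := by
  have n1 : ∀ {x : G}, (orderOf x).Prime → x ≠ 1 := fun hx e => by
    rw [e, orderOf_one] at hx; exact Nat.not_prime_one hx
  have key : ∀ {S : Subgroup G}, Fac N S → ∃ a ∈ S, (orderOf a).Prime ∧ orderOf a ≠ p := by
    intro S hS
    obtain ⟨a, ha, b, hb, -, -, pa, pb, -, e1, -, -⟩ := hS.exists_three_primes
    by_cases e : orderOf a = p
    · exact ⟨b, hb, pb, fun e' => e1 (e.trans e'.symm)⟩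
    · exact ⟨a, ha, pa, e⟩
  rcases h.derangements hp hor with h1 | ⟨T', h', hne, t, ht, h1⟩
  · obtain ⟨a, ha, pa, e⟩ := key h
    exact ⟨a, _, pa, e, dvd_rfl, h1 a ha (n1 pa)⟩
  · obtain ⟨a, ha, pa, e⟩ := key h'
    exact ⟨t * a, _, pa, e, h.orderOf_dvd_mul h' hne ht ha, h1 a ha⟩

end Fac

/-- The conjugacy classes of derangements. -/
abbrev DerCl (G Ω : Type*) [Group G] [MulAction G Ω] : Type _ :=
  {c : ConjClasses G // ∃ g : G, ConjClasses.mk g = c ∧ ∀ ω : Ω, g • ω ≠ ω}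

theorem three_le_card_derCl [Finite G] {a b c : G} (ha : ∀ ω : Ω, a • ω ≠ ω)
    (hb : ∀ ω : Ω, b • ω ≠ ω) (hc : ∀ ω : Ω, c • ω ≠ ω) (h1 : ¬ IsConj a b) (h2 : ¬ IsConj a c)
    (h3 : ¬ IsConj b c) : 3 ≤ Nat.card (DerCl G Ω) := by
  classical
  haveI := Fintype.ofFinite (DerCl G Ω)
  rw [Nat.card_eq_fintype_card]
  refine Fintype.two_lt_card_iff.mpr ⟨⟨_, a, rfl, ha⟩, ⟨_, b, rfl, hb⟩, ⟨_, c, rfl, hc⟩, ?_, ?_, ?_⟩
  · exact fun e => h1 (ConjClasses.mk_eq_mk_iff_isConj.mp (congrArg Subtype.val e))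
  · exact fun e => h2 (ConjClasses.mk_eq_mk_iff_isConj.mp (congrArg Subtype.val e))
  · exact fun e => h3 (ConjClasses.mk_eq_mk_iff_isConj.mp (congrArg Subtype.val e))

section Affine

variable {N : Subgroup G}

theorem eq_one_of_regular (hr : ∀ ω : Ω, stabilizer N ω = ⊥) {n : G} (hn : n ∈ N) {ω : Ω}
    (h : n • ω = ω) : n = 1 := by
  have : (⟨n, hn⟩ : N) ∈ stabilizer N ω := h
  rw [hr, mem_bot] at this
  exact congrArg Subtype.val this

theorem eq_of_regular (hr : ∀ ω : Ω, stabilizer N ω = ⊥) {n m : G} (hn : n ∈ N) (hm : m ∈ N)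
    {ω : Ω} (h : n • ω = m • ω) : n = m :=
  (inv_mul_eq_one.mp (eq_one_of_regular hr (N.mul_mem (N.inv_mem hm) hn)
    (ω := ω) (by rw [mul_smul, h, inv_smul_smul]))).symm

/-- If a regular normal subgroup contains all derangements, no non-identity element fixes two
points. -/
theorem eq_one_of_fix_two [Finite G] (hN : N.Normal) (ht : IsPretransitive N Ω)
    (hr : ∀ ω : Ω, stabilizer N ω = ⊥) (hder : ∀ g : G, (∀ ω : Ω, g • ω ≠ ω) → g ∈ N)
    {h : G} {a b : Ω} (hab : a ≠ b) (ha : h • a = a) (hb : h • b = b) : h = 1 := by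
  by_contra h1
  have hN' : h ∉ N := fun hh => h1 (eq_one_of_regular hr hh ha)
  let f : N → N := fun n => ⟨n * (h * (n : G)⁻¹ * h⁻¹), N.mul_mem n.2 (hN.conj_mem _ (N.inv_mem n.2) h)⟩
  obtain ⟨m, rfl⟩ := ht.exists_smul_eq a b
  have hm : h * m * h⁻¹ = m := by
    refine eq_of_regular hr (hN.conj_mem _ m.2 h) m.2 (ω := a) ?_
    have : h⁻¹ • a = a := by rw [inv_smul_eq_iff, ha]
    rw [mul_smul, mul_smul, this]; exact hb
  have hinj : ¬ Function.Injective f := by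
    intro hf
    have : f m = f 1 := by
      apply Subtype.ext
      simp only [f, coe_one, inv_one, mul_one, mul_inv_cancel]
      calc (m : G) * (h * (m : G)⁻¹ * h⁻¹) = m * (h * m * h⁻¹)⁻¹ := by group
        _ = 1 := by rw [hm]; simp
    exact hab (by rw [hf this, one_smul])
  rw [Finite.injective_iff_surjective] at hinj
  obtain ⟨x, hx⟩ := not_forall.mp hinj
  refine hN' ?_
  have := hder (x * h) fun ω hω => ?_
  · simpa using N.mul_mem (N.inv_mem x.2) this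
  · obtain ⟨n, rfl⟩ := ht.exists_smul_eq a ω
    refine hx ⟨n, Subtype.ext ?_⟩
    refine eq_of_regular hr (f n).2 x.2 (ω := h • (n : G) • a) ?_
    simp only [f]
    have e : (x : G) • h • (n : G) • a = (n : G) • a := by rw [← mul_smul]; exact hω
    rw [e, mul_smul, mul_smul, mul_smul, inv_smul_smul, inv_smul_smul, ha]

/-- Conjugate elements of an abelian regular normal subgroup correspond to points in one
suborbit. -/
theorem exists_stabilizer_of_isConj (hN : N.Normal) (hc : IsMulCommutative N)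
    (ht : IsPretransitive N Ω) {n m : G} (hn : n ∈ N) (e : IsConj n m) (a : Ω) :
    ∃ h : G, h • a = a ∧ h • n • a = m • a := by
  obtain ⟨g, rfl⟩ := isConj_iff.mp e
  obtain ⟨x, hx⟩ := ht.exists_smul_eq a (g • a)
  have hx' : (x : G) • a = g • a := hx
  refine ⟨(x : G)⁻¹ * g, by rw [mul_smul, ← hx', inv_smul_smul], ?_⟩
  have h1 : (x : G)⁻¹ * (g * n * g⁻¹) = (g * n * g⁻¹) * (x : G)⁻¹ :=
    congrArg Subtype.val (hc.is_comm.comm x⁻¹ ⟨_, hN.conj_mem n hn g⟩)
  calc ((x : G)⁻¹ * g) • n • a = ((x : G)⁻¹ * (g * n * g⁻¹)) • g • a := by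
        simp only [← mul_smul]; congr 1; group
    _ = _ := by rw [h1, mul_smul, ← hx', inv_smul_smul]

theorem isConj_of_stabilizer (hN : N.Normal) (hr : ∀ ω : Ω, stabilizer N ω = ⊥) {n m h : G}
    (hn : n ∈ N) (hm : m ∈ N) {a : Ω} (ha : h • a = a) (e : h • n • a = m • a) : IsConj n m := by
  refine isConj_iff.mpr ⟨h, eq_of_regular hr (hN.conj_mem n hn h) hm (ω := a) ?_⟩
  have : h⁻¹ • a = a := by rw [inv_smul_eq_iff, ha]
  rw [mul_smul, mul_smul, this, e]

end Affine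

end H74.ONS
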