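import Mathlib
import Cfsg.Agent.Lib.ONS.Prim

/-!
Extremely primitive groups: Manning's theorem (helper74).
-/

set_option autoImplicit false

namespace H74.ONS

open Subgroup MulAction

variable {G Ω : Type*} [Group G] [MulAction G Ω]

theorem stabilizer_ne_of_ne [FaithfulSMul G Ω] (hp : IsPreprimitive G Ω) {a b : Ω}
    (hH : stabilizer G a ≠ ⊥) (hab : a ≠ b) : stabilizer G a ≠ stabilizer G b := by
  intro e
  obtain ⟨g, rfl⟩ := hp.toIsPretransitive.exists_smul_eq a b
  have h1 := H75.normalizer_eq_stabilizer hp (stabilizer G a) le_rfl hH le_normalizer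
  have h2 : g ∈ normalizer (stabilizer G a : Set G) := by
    rw [← cj_eq_iff_mem_normalizer, ← stabilizer_smul, ← e]
  rw [h1] at h2
  exact hab (show g • a = a from h2).symm

/-- In an extremely primitive group the two-point stabiliser is maximal in the point
stabiliser. -/
theorem le_of_extreme {a b : Ω}
    (hep : IsPreprimitive (stabilizer G a) (orbit (stabilizer G a) b)) {K : Subgroup G}
    (h1 : stabilizer G a ⊓ stabilizer G b ≤ K) (h2 : K ≤ stabilizer G a) :
    K ≤ stabilizer G b ∨ K = stabilizer G a := by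
  by_cases hb : stabilizer G a ≤ stabilizer G b
  · exact Or.inl (h2.trans hb)
  obtain ⟨x, hx, hx'⟩ := SetLike.not_le_iff_exists.mp hb
  haveI : Nontrivial (orbit (stabilizer G a) b) :=
    ⟨⟨b, mem_orbit_self b⟩, ⟨_, mem_orbit b (⟨x, hx⟩ : stabilizer G a)⟩, fun e =>
      hx' (congrArg Subtype.val e).symm⟩
  have hco := H75.isCoatom_stabilizer hep (⟨b, mem_orbit_self b⟩ : orbit (stabilizer G a) b)
  have hle : stabilizer (stabilizer G a) (⟨b, mem_orbit_self b⟩ : orbit (stabilizer G a) b) ≤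
      K.subgroupOf (stabilizer G a) := fun y hy =>
    h1 ⟨y.2, (congrArg Subtype.val (mem_stabilizer_iff.mp hy) : _)⟩
  rcases hle.eq_or_lt with e | e
  · left
    intro y hy
    have : (⟨y, h2 hy⟩ : stabilizer G a) ∈ K.subgroupOf (stabilizer G a) := hy
    rw [← e] at this
    exact (congrArg Subtype.val (mem_stabilizer_iff.mp this) : _)
  · exact Or.inr (le_antisymm h2 (subgroupOf_eq_top.mp (hco.2 _ e)))

theorem fix_or_trans {a b : Ω}
    (hep : IsPreprimitive (stabilizer G a) (orbit (stabilizer G a) b)) {M : Subgroup G}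
    (hM : M ≤ stabilizer G a) (hn : ∀ k ∈ stabilizer G a, ∀ x ∈ M, k * x * k⁻¹ ∈ M) :
    M ≤ stabilizer G b ∨ ∀ k ∈ stabilizer G a, ∃ x ∈ M, k • b = x • b := by
  let K : Subgroup G :=
    { carrier := {k | k ∈ stabilizer G a ∧ ∃ x ∈ M, k • b = x • b}
      one_mem' := ⟨one_mem _, 1, M.one_mem, rfl⟩
      mul_mem' := by
        rintro k l ⟨hk, x, hx, e⟩ ⟨hl, y, hy, e'⟩
        refine ⟨mul_mem hk hl, k * y * k⁻¹ * x, M.mul_mem (hn k hk y hy) hx, ?_⟩
        rw [mul_smul, e', mul_smul, ← e]; simp [mul_smul]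
      inv_mem' := by
        rintro k ⟨hk, x, hx, e⟩
        refine ⟨inv_mem hk, k⁻¹ * x⁻¹ * k⁻¹⁻¹, hn _ (inv_mem hk) _ (M.inv_mem hx), ?_⟩
        rw [inv_inv, mul_smul, mul_smul, e, inv_smul_smul] }
  rcases le_of_extreme hep (K := K) (fun k hk => ⟨hk.1, 1, M.one_mem, by rw [one_smul]; exact hk.2⟩)
    (fun k hk => hk.1) with h | h
  · exact Or.inl fun x hx => h ⟨hM hx, x, hx, rfl⟩
  · exact Or.inr fun k hk => (show k ∈ K from h ▸ hk).2

theorem card_orbit_lt [Finite G] [Finite Ω] (hp : IsPreprimitive G Ω) {a b c : Ω}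
    (hab : stabilizer G a ≠ stabilizer G b) (hc : c ≠ a)
    (h : ∀ k ∈ stabilizer G a, ∃ x ∈ stabilizer G b, k • c = x • c) :
    Nat.card (orbit (stabilizer G a) c) < Nat.card (orbit (stabilizer G b) c) := by
  have hsub : orbit (stabilizer G a) c ⊆ orbit (stabilizer G b) c := by
    rintro _ ⟨k, rfl⟩
    obtain ⟨x, hx, e⟩ := h k k.2
    exact ⟨⟨x, hx⟩, e.symm⟩
  by_contra hle
  have heq := Set.eq_of_subset_of_ncard_le hsub (not_lt.mp hle)
  let S : Subgroup G :=
    { carrier := {g | ∀ x, x ∈ orbit (stabilizer G a) c ↔ g • x ∈ orbit (stabilizer G a) c}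
      one_mem' := fun x => by rw [one_smul]
      mul_mem' := fun {g k} hg hk x => by rw [mul_smul, ← hg, ← hk]
      inv_mem' := fun {g} hg x => by rw [hg (g⁻¹ • x), smul_inv_smul] }
  have key : ∀ d : Ω, ∀ g ∈ stabilizer G d, ∀ x,
      x ∈ orbit (stabilizer G d) c ↔ g • x ∈ orbit (stabilizer G d) c := fun d g hg x =>
    ⟨fun hx => mem_orbit_of_mem_orbit (⟨g, hg⟩ : stabilizer G d) hx, fun hx => by
      have := mem_orbit_of_mem_orbit (⟨g, hg⟩⁻¹ : stabilizer G d) hx
      rwa [Subgroup.smul_def, coe_inv, inv_smul_smul] at this⟩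
  have hS : S = ⊤ := by
    rw [eq_top_iff, ← H75.sup_stabilizer_eq_top hp hab]
    refine sup_le (fun g hg => key a g hg) fun g hg => ?_
    change ∀ x, _ ↔ _
    rw [heq]; exact key b g hg
  obtain ⟨g, hg⟩ := hp.toIsPretransitive.exists_smul_eq c a
  have h1 : g ∈ S := hS ▸ mem_top g
  obtain ⟨k, hk⟩ := (h1 c).mp (mem_orbit_self c)
  apply hc
  have h2 : (k : G) • c = (k : G) • a := by
    rw [show (k : G) • a = a from k.2]; exact hk.trans hg
  exact MulAction.injective _ h2

theorem card_orbit_stabilizer_smul (g : G) (a b : Ω) :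
    Nat.card (orbit (stabilizer G (g • a)) (g • b)) = Nat.card (orbit (stabilizer G a) b) := by
  rw [H75.card_orbit_stabilizer, H75.card_orbit_stabilizer, stabilizer_smul_eq_stabilizer_map_conj,
    stabilizer_smul_eq_stabilizer_map_conj]
  exact relIndex_map_map_of_injective _ _ (MulAut.conj g).injective

/-- Manning's theorem: in an extremely primitive group a non-trivial normal subgroup of a point
stabiliser has the same orbits as the point stabiliser. -/
theorem manning [Finite G] [Finite Ω] [FaithfulSMul G Ω] (hp : IsPreprimitive G Ω) {a : Ω}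
    (hep : ∀ b : Ω, IsPreprimitive (stabilizer G a) (orbit (stabilizer G a) b)) {M : Subgroup G}
    (hM1 : M ≠ ⊥) (hM : M ≤ stabilizer G a) (hn : ∀ k ∈ stabilizer G a, ∀ x ∈ M, k * x * k⁻¹ ∈ M)
    {b : Ω} (hb : b ≠ a) : ¬ M ≤ stabilizer G b := by
  intro hMb
  have hH : ∀ x : Ω, stabilizer G x ≠ ⊥ := fun x e => by
    have := H75.card_stabilizer_eq hp.toIsPretransitive a x
    rw [e, card_bot, card_eq_one] at this
    exact hM1 (eq_bot_iff.mpr (this ▸ hM))
  obtain ⟨c, hc⟩ : ∃ c, ¬ M ≤ stabilizer G c := by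
    by_contra hcon
    push Not at hcon
    refine hM1 (eq_bot_iff.mpr fun x hx => mem_bot.mpr ?_)
    exact FaithfulSMul.eq_of_smul_eq_smul (α := Ω) fun y => by rw [one_smul]; exact hcon y hx
  have main : ∀ b c : Ω, b ≠ a → M ≤ stabilizer G b → ¬ M ≤ stabilizer G c → ∃ d, d ≠ a ∧
      Nat.card (orbit (stabilizer G a) b) < Nat.card (orbit (stabilizer G a) d) ∧
      Nat.card (orbit (stabilizer G a) c) < Nat.card (orbit (stabilizer G a) d) := by
    intro b c hb hMb hc
    have hca : c ≠ a := by rintro rfl; exact hc hM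
    have hcb : c ≠ b := by rintro rfl; exact hc hMb
    have htr := (fix_or_trans (hep c) hM hn).resolve_left hc
    have h1 := card_orbit_lt hp (stabilizer_ne_of_ne hp (hH a) hb.symm) hca fun k hk => by
      obtain ⟨x, hx, e⟩ := htr k hk
      exact ⟨x, hMb hx, e⟩
    have h2 := card_orbit_lt hp (stabilizer_ne_of_ne hp (hH a) hca.symm) hb fun k hk => by
      obtain ⟨x, hx, e⟩ := htr k⁻¹ (inv_mem hk)
      refine ⟨k * x, ?_, ?_⟩
      · rw [mem_stabilizer_iff, mul_smul, ← e, smul_inv_smul]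
      · rw [mul_smul, show x • b = b from hMb hx]
    rw [H75.card_orbit_stabilizer c b, H75.relIndex_stabilizer_comm hp.toIsPretransitive,
      ← H75.card_orbit_stabilizer] at h2
    obtain ⟨g, rfl⟩ := hp.toIsPretransitive.exists_smul_eq a b
    refine ⟨g⁻¹ • c, fun e => hcb (by rw [← e, smul_inv_smul]), ?_⟩
    rw [← card_orbit_stabilizer_smul g a (g⁻¹ • c), smul_inv_smul]
    exact ⟨h2, h1⟩
  obtain ⟨d, hd, hmax⟩ := Set.exists_max_image {x : Ω | x ≠ a}
    (fun x => Nat.card (orbit (stabilizer G a) x)) (Set.toFinite _) ⟨b, hb⟩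
  by_cases h : M ≤ stabilizer G d
  · obtain ⟨e, he, h1, -⟩ := main d c hd h hc
    exact absurd (hmax e he) (not_le.mpr h1)
  · obtain ⟨e, he, -, h1⟩ := main b d hb hMb h
    exact absurd (hmax e he) (not_le.mpr h1)

theorem manning_trans [Finite G] [Finite Ω] [FaithfulSMul G Ω] (hp : IsPreprimitive G Ω) {a : Ω}
    (hep : ∀ b : Ω, IsPreprimitive (stabilizer G a) (orbit (stabilizer G a) b)) {M : Subgroup G}
    (hM1 : M ≠ ⊥) (hM : M ≤ stabilizer G a) (hn : ∀ k ∈ stabilizer G a, ∀ x ∈ M, k * x * k⁻¹ ∈ M)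
    (b : Ω) {k : G} (hk : k ∈ stabilizer G a) : ∃ x ∈ M, k • b = x • b := by
  by_cases hb : b = a
  · exact ⟨1, M.one_mem, by rw [hb, one_smul]; exact hk⟩
  · exact (fix_or_trans (hep b) hM hn).resolve_left (manning hp hep hM1 hM hn hb) k hk

/-- The point stabiliser is faithful on each non-trivial suborbit. -/
theorem eq_one_of_fix_orbit [Finite G] [Finite Ω] [FaithfulSMul G Ω] (hp : IsPreprimitive G Ω)
    {a : Ω} (hep : ∀ b : Ω, IsPreprimitive (stabilizer G a) (orbit (stabilizer G a) b)) {b : Ω}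
    (hb : b ≠ a) {h : G} (hh : h ∈ stabilizer G a)
    (hfix : ∀ k ∈ stabilizer G a, h • k • b = k • b) : h = 1 := by
  let M : Subgroup G :=
    { carrier := {h | h ∈ stabilizer G a ∧ ∀ k ∈ stabilizer G a, h • k • b = k • b}
      one_mem' := ⟨one_mem _, fun k _ => one_smul _ _⟩
      mul_mem' := fun {x y} hx hy => ⟨mul_mem hx.1 hy.1, fun k hk => by
        rw [mul_smul, hy.2 k hk, hx.2 k hk]⟩
      inv_mem' := fun {x} hx => ⟨inv_mem hx.1, fun k hk => by rw [inv_smul_eq_iff, hx.2 k hk]⟩ }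
  by_contra h1
  refine manning hp hep (M := M) (fun e => h1 (mem_bot.mp (e ▸ (⟨hh, hfix⟩ : h ∈ M))))
    (fun x hx => hx.1) (fun k hk x hx => ⟨mul_mem (mul_mem hk hx.1) (inv_mem hk), fun l hl => ?_⟩) hb
    fun x hx => by simpa using hx.2 1 (one_mem _)
  rw [mul_smul, mul_smul, ← mul_smul k⁻¹, hx.2 _ (mul_mem (inv_mem hk) hl), mul_smul, smul_inv_smul]

theorem faithful_orbit [Finite G] [Finite Ω] [FaithfulSMul G Ω] (hp : IsPreprimitive G Ω)
    {a : Ω} (hep : ∀ b : Ω, IsPreprimitive (stabilizer G a) (orbit (stabilizer G a) b)) {b : Ω}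
    (hb : b ≠ a) : FaithfulSMul (stabilizer G a) (orbit (stabilizer G a) b) := by
  refine ⟨fun {x y} h => ?_⟩
  rw [← inv_mul_eq_one, Subtype.ext_iff]
  refine eq_one_of_fix_orbit hp hep hb (x⁻¹ * y).2 fun k hk => ?_
  have := congrArg Subtype.val (h ⟨_, mem_orbit b (⟨k, hk⟩ : stabilizer G a)⟩)
  rw [coe_mul, mul_smul, coe_inv, inv_smul_eq_iff]
  exact this.symm

/-- Two different points of a suborbit with `G_{ab} ≤ G_{ab'}` force a regular suborbit. -/
theorem inf_eq_bot_of_le [Finite G] [Finite Ω] [FaithfulSMul G Ω] (hp : IsPreprimitive G Ω)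
    {a : Ω} (hep : ∀ b : Ω, IsPreprimitive (stabilizer G a) (orbit (stabilizer G a) b)) {b : Ω}
    (hb : b ≠ a) {k : G} (hk : k ∈ stabilizer G a) (hkb : k • b ≠ b)
    (hle : stabilizer G a ⊓ stabilizer G b ≤ stabilizer G (k • b)) :
    stabilizer G a ⊓ stabilizer G b = ⊥ := by
  set L := stabilizer G a ⊓ stabilizer G b with hL
  have h1 : L ≤ cj k L := by
    intro x hx
    rw [mem_cj]
    exact mem_inf.mpr ⟨mul_mem (mul_mem (inv_mem hk) hx.1) hk,
      H75.stabilizer_smul_mem.mp (hle hx)⟩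
  have h2 : L = cj k L := eq_of_le_of_card_ge h1 (by
    rw [cj, Subgroup.pointwise_smul_def]
    exact (card_map_of_injective (MulAut.conj k).injective).le)
  have h3 : k ∈ stabilizer G a ⊓ normalizer (L : Set G) := ⟨hk, cj_eq_iff_mem_normalizer.mp h2.symm⟩
  rcases le_of_extreme (hep b) (K := stabilizer G a ⊓ normalizer (L : Set G))
    (le_inf inf_le_left le_normalizer) inf_le_left with h | h
  · exact absurd (h h3) hkb
  · by_contra hne
    refine manning hp hep hne inf_le_left (fun l hl x hx => ?_) hb inf_le_right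
    have : l ∈ normalizer (L : Set G) := (h.ge hl).2
    exact (mem_normalizer_iff.mp this x).mp hx

/-- A regular suborbit forces every subgroup of the point stabiliser to be trivial or everything. -/
theorem eq_bot_or_eq_of_inf_eq_bot {a b : Ω}
    (hep : IsPreprimitive (stabilizer G a) (orbit (stabilizer G a) b))
    (h : stabilizer G a ⊓ stabilizer G b = ⊥) {K : Subgroup G} (hK : K ≤ stabilizer G a) :
    K = ⊥ ∨ K = stabilizer G a := by
  rcases le_of_extreme hep (K := K) (h ▸ bot_le) hK with h1 | h1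
  · exact Or.inl (eq_bot_iff.mpr (h ▸ le_inf hK h1))
  · exact Or.inr h1

theorem comm_of_inf_eq_bot {a b : Ω}
    (hep : IsPreprimitive (stabilizer G a) (orbit (stabilizer G a) b))
    (h : stabilizer G a ⊓ stabilizer G b = ⊥) : IsMulCommutative (stabilizer G a) := by
  refine ⟨⟨fun x y => ?_⟩⟩
  rcases eq_bot_or_eq_of_inf_eq_bot hep h (K := zpowers (x : G)) (by simp) with h1 | h1
  · have : x = 1 := Subtype.ext (zpowers_eq_bot.mp h1)
    rw [this, one_mul, mul_one]
  · have : (y : G) ∈ zpowers (x : G) := h1.symm ▸ y.2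
    obtain ⟨n, hn⟩ := mem_zpowers_iff.mp this
    apply Subtype.ext
    rw [coe_mul, coe_mul, ← hn]
    exact (Commute.zpow_right (Commute.refl _) n).eq

end H74.ONS
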