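import Mathlib
import Cfsg.Agent.Lib.ONS.Extreme
import Cfsg.Agent.Lib.Core.Fitting
import Cfsg.Agent.S0583

/-!
Fitting subgroup of a primitive group; semiregular subgroups of a point stabiliser (helper74).
-/

set_option autoImplicit false

namespace H74.ONS

open Subgroup MulAction Cfsg

variable {G Ω : Type*} [Group G] [MulAction G Ω]

theorem centralizer_le_of_comm_trans [FaithfulSMul G Ω] [Nonempty Ω] {M : Subgroup G}
    (hc : IsMulCommutative M) (ht : IsPretransitive M Ω) : centralizer (M : Set G) ≤ M := by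
  intro c hc'
  obtain ⟨a⟩ := ‹Nonempty Ω›
  obtain ⟨m, hm⟩ := ht.exists_smul_eq a (c • a)
  have h1 : (m : G)⁻¹ * c = 1 := eq_one_of_centralizer_of_fix ht
    (mul_mem (inv_mem (le_centralizer_iff_isMulCommutative.mpr hc m.2)) hc') (a := a)
    (by rw [mul_smul, inv_smul_eq_iff]; exact hm.symm)
  rw [← inv_mul_eq_one.mp h1]; exact m.2

theorem prim_fitting [Finite G] [FaithfulSMul G Ω] [Nonempty Ω] (hp : IsPreprimitive G Ω)
    (hF : fittingSubgroup G ≠ ⊥) :
    IsMulCommutative (fittingSubgroup G) ∧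
      centralizer (fittingSubgroup G : Set G) = fittingSubgroup G ∧
      (∀ ω : Ω, stabilizer (fittingSubgroup G) ω = ⊥) ∧
      IsPretransitive (fittingSubgroup G) Ω ∧
      ∃ p : ℕ, p.Prime ∧ ∀ x ∈ fittingSubgroup G, x ^ p = 1 := by
  obtain ⟨M, hM, hne, hle, hmin⟩ := H26.exists_minNormal_le (fittingSubgroup G) hF
  have h1 := Cfsg.Agent.S0583.result M hne hmin
  have hc : IsMulCommutative M := le_centralizer_iff_isMulCommutative.mp (hle.trans h1)
  haveI ht := H75.normal_isPretransitive' hp M hM hne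
  have h2 := centralizer_le_of_comm_trans hc ht
  have e : fittingSubgroup G = M := le_antisymm (h1.trans h2) hle
  rw [e]
  exact ⟨hc, le_antisymm h2 (le_centralizer_iff_isMulCommutative.mpr hc),
    H26.stabilizer_eq_bot_of_comm M hc, ht, H26.minNormal_elementary M hne hmin hc⟩

theorem card_dvd_of_semiregular [Finite Ω] {a : Ω} (F : Subgroup (stabilizer G a))
    (h : ∀ x ∈ F, ∀ b : Ω, b ≠ a → (x : G) • b = b → x = 1) : Nat.card F ∣ Nat.card Ω - 1 := by
  have e := MulAction.selfEquivOrbitsQuotientProd (G := F) (X := SubMulAction.ofStabilizer G a)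
    (fun b => by
      rw [eq_bot_iff]
      intro x hx
      exact mem_bot.mpr (Subtype.ext (h x x.2 b b.2 (congrArg Subtype.val hx))))
  rw [← SubMulAction.nat_card_ofStabilizer_eq G a, Nat.card_congr e, Nat.card_prod]
  exact Dvd.intro_left _ rfl

theorem exists_ne_of_stabilizer_ne_bot [FaithfulSMul G Ω] {a : Ω} (h : stabilizer G a ≠ ⊥) :
    ∃ b : Ω, b ≠ a := by
  by_contra hc
  push Not at hc
  refine h (eq_bot_iff.mpr fun x _ => mem_bot.mpr ?_)
  exact FaithfulSMul.eq_of_smul_eq_smul (α := Ω) fun y => by rw [hc (x • y), hc (1 • y)]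

theorem prime_card_of_inf_eq_bot [Finite G] {a b : Ω}
    (hep : IsPreprimitive (stabilizer G a) (orbit (stabilizer G a) b))
    (h : stabilizer G a ⊓ stabilizer G b = ⊥) (h1 : stabilizer G a ≠ ⊥) :
    (Nat.card (stabilizer G a)).Prime := by
  obtain ⟨p, hp, hd⟩ := Nat.exists_prime_and_dvd (mt card_eq_one.mp h1)
  haveI := Fact.mk hp
  obtain ⟨x, hx⟩ := exists_prime_orderOf_dvd_card' p hd
  rcases eq_bot_or_eq_of_inf_eq_bot hep h (K := zpowers (x : G)) (by simp) with h2 | h2
  · have : x = 1 := Subtype.ext (zpowers_eq_bot.mp h2)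
    rw [this, orderOf_one] at hx
    exact absurd hx.symm hp.one_lt.ne'
  · rw [← h2, Nat.card_zpowers, orderOf_coe, hx]; exact hp

end H74.ONS
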